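import Cfsg.Agent.H766.KGV.Digits
import Cfsg.Prelude.Def_Blocks

/-!
# The Hasse-Davenport quotient is a unit at the primes over `p`

From the Stickelberger theorem (valuations of Gauss sums) in the form `StickLight`.
-/

set_option autoImplicit false

open Finset

namespace Cfsg.Agent.H766.KGV

open Cfsg

/-- Stickelberger's theorem: the Gauss sum of `ω ^ a` is `P ^ s(a)` up to units at `M`. -/
def StickLight : Prop := ∀ (p : ℕ) (M : Ideal AlgInt), IsPModular p M →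
  ∀ (K : Type) [Field K] [Fintype K] [CharP K p] (f : ℕ), Fintype.card K = p ^ f →
    2 < Fintype.card K →
    ∃ (ω : MulChar K ℂ) (P : ℂ), orderOf ω = Fintype.card K - 1 ∧
      (∀ ψ : AddChar K ℂ, ψ ≠ 1 → ∀ a, a < Fintype.card K - 1 → ∃ x y : AlgInt, x ∉ M ∧ y ∉ M ∧
        (x : ℂ) * P ^ (Nat.digits p a).sum = y * gaussSum (ω ^ a) ψ) ∧
      (∃ x y : AlgInt, x ∉ M ∧ y ∉ M ∧
        (x : ℂ) * P ^ (f * (p - 1)) = y * (Fintype.card K : ℂ)) ∧ P ≠ 0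

/-- `z` is a unit at `M`. -/
def MUnit (M : Ideal AlgInt) (z : ℂ) : Prop :=
  ∃ x y : AlgInt, x ∉ M ∧ y ∉ M ∧ (y : ℂ) * z = x

namespace MUnit

variable {M : Ideal AlgInt} (hM : M.IsPrime)

theorem ne_zero {z : ℂ} (h : MUnit M z) : z ≠ 0 := by
  obtain ⟨x, y, hx, hy, e⟩ := h
  rintro rfl
  apply hx
  have : x = 0 := by
    apply Subtype.ext
    rw [← e, mul_zero]
    rfl
  rw [this]
  exact M.zero_mem

theorem coe_ne_zero {y : AlgInt} (hy : y ∉ M) : (y : ℂ) ≠ 0 := by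
  intro h
  apply hy
  have : y = 0 := Subtype.ext h
  rw [this]
  exact M.zero_mem

include hM in
theorem one : MUnit M 1 :=
  ⟨1, 1, fun h => hM.ne_top ((Ideal.eq_top_iff_one _).2 h),
    fun h => hM.ne_top ((Ideal.eq_top_iff_one _).2 h), by simp⟩

include hM in
theorem mul {z w : ℂ} (hz : MUnit M z) (hw : MUnit M w) : MUnit M (z * w) := by
  obtain ⟨x, y, hx, hy, e⟩ := hz
  obtain ⟨x', y', hx', hy', e'⟩ := hw
  refine ⟨x * x', y * y', fun h => (hM.mem_or_mem h).elim hx hx',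
    fun h => (hM.mem_or_mem h).elim hy hy', ?_⟩
  push_cast
  rw [← e, ← e']
  ring

theorem inv {z : ℂ} (hz : MUnit M z) : MUnit M z⁻¹ := by
  have h0 := hz.ne_zero
  obtain ⟨x, y, hx, hy, e⟩ := hz
  refine ⟨y, x, hy, hx, ?_⟩
  rw [← e]
  field_simp

include hM in
theorem pow {z : ℂ} (hz : MUnit M z) (n : ℕ) : MUnit M (z ^ n) := by
  induction n with
  | zero => rw [pow_zero]; exact one hM
  | succ n ih => rw [pow_succ]; exact mul hM ih hz

include hM in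
theorem prod {ι : Type*} (s : Finset ι) (z : ι → ℂ) (hz : ∀ i ∈ s, MUnit M (z i)) :
    MUnit M (∏ i ∈ s, z i) := by
  classical
  induction s using Finset.induction_on with
  | empty => rw [prod_empty]; exact one hM
  | insert a s ha ih =>
    rw [prod_insert ha]
    exact mul hM (hz a (mem_insert_self a s)) (ih fun i hi => hz i (mem_insert_of_mem hi))

include hM in
theorem div {z w : ℂ} (hz : MUnit M z) (hw : MUnit M w) : MUnit M (z / w) := by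
  rw [div_eq_mul_inv]
  exact mul hM hz hw.inv

theorem of_eq {x y : AlgInt} {z w : ℂ} (hx : x ∉ M) (hy : y ∉ M) (hw : w ≠ 0)
    (e : (x : ℂ) * z = y * w) : MUnit M (z / w) :=
  ⟨y, x, hy, hx, by rw [mul_div_assoc', e, mul_div_assoc, div_self hw, mul_one]⟩

end MUnit

theorem exists_pow_lt {K : Type*} [Field K] [Fintype K] {ω : MulChar K ℂ}
    (hω : orderOf ω = Fintype.card K - 1) (h1 : 1 < Fintype.card K) (χ : MulChar K ℂ) :
    ∃ a < Fintype.card K - 1, χ = ω ^ a := by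
  classical
  have hcard : Nat.card (MulChar K ℂ) = Fintype.card K - 1 := by
    rw [MulChar.card_eq_card_units_of_hasEnoughRootsOfUnity, Nat.card_eq_fintype_card,
      Fintype.card_units]
  have : Finite (MulChar K ℂ) := Nat.finite_of_card_ne_zero (by omega)
  have h2 : Subgroup.zpowers ω = ⊤ := by
    apply Subgroup.eq_top_of_card_eq
    rw [Nat.card_zpowers, hω, hcard]
  have h3 : χ ∈ Subgroup.zpowers ω := by rw [h2]; trivial
  rw [← mem_powers_iff_mem_zpowers] at h3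
  obtain ⟨n, hn⟩ := h3
  refine ⟨n % orderOf ω, ?_, ?_⟩
  · rw [← hω]; exact Nat.mod_lt _ (by rw [hω]; omega)
  · rw [pow_mod_orderOf]; exact hn.symm

/-- The quotient of the two sides of the product formula is a unit at `M`. -/
theorem munit_quot {p f : ℕ} (hp : p.Prime) {M : Ideal AlgInt} (hM : M.IsPrime)
    {K : Type*} [Field K] [Fintype K] (hf : Fintype.card K = p ^ f)
    {ω : MulChar K ℂ} {P : ℂ} (hω : orderOf ω = Fintype.card K - 1)
    (hG : ∀ ψ : AddChar K ℂ, ψ ≠ 1 → ∀ a, a < Fintype.card K - 1 → ∃ x y : AlgInt, x ∉ M ∧ y ∉ M ∧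
        (x : ℂ) * P ^ (Nat.digits p a).sum = y * gaussSum (ω ^ a) ψ)
    (hq : ∃ x y : AlgInt, x ∉ M ∧ y ∉ M ∧
        (x : ℂ) * P ^ (f * (p - 1)) = y * (Fintype.card K : ℂ)) (hP : P ≠ 0)
    {χ ρ : MulChar K ℂ} {ψ ψ' : AddChar K ℂ} (hψ : ψ ≠ 1) (hψ' : ψ' ≠ 1) {ℓ : ℕ} (hℓ : ℓ.Prime)
    (hℓ2 : ℓ ≠ 2) (hρ : orderOf ρ = ℓ) :
    MUnit M ((∏ i ∈ range ℓ, gaussSum (χ * ρ ^ i) ψ) /
      (gaussSum (χ ^ ℓ) ψ' * (Fintype.card K : ℂ) ^ ((ℓ - 1) / 2))) := by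
  classical
  have h1 : 1 < Fintype.card K := Fintype.one_lt_card
  have hN : 0 < p ^ f - 1 := by omega
  -- Gauss sums are powers of `P`
  have hg : ∀ ψ : AddChar K ℂ, ψ ≠ 1 → ∀ a, MUnit M
      (gaussSum (ω ^ a) ψ / P ^ (Nat.digits p (a % (p ^ f - 1))).sum) := by
    intro ψ hψ a
    have h2 : ω ^ a = ω ^ (a % (p ^ f - 1)) := by
      rw [← hf, ← hω, pow_mod_orderOf]
    rw [h2]
    obtain ⟨x, y, hx, hy, e⟩ := hG ψ hψ (a % (p ^ f - 1)) (by rw [hf]; exact Nat.mod_lt _ hN)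
    exact MUnit.of_eq hy hx (pow_ne_zero _ hP) e.symm
  have hqu : MUnit M ((Fintype.card K : ℂ) / P ^ (f * (p - 1))) := by
    obtain ⟨x, y, hx, hy, e⟩ := hq
    exact MUnit.of_eq hy hx (pow_ne_zero _ hP) e.symm
  obtain ⟨a, _, hχ⟩ := exists_pow_lt hω h1 χ
  obtain ⟨b, _, hρb⟩ := exists_pow_lt hω h1 ρ
  have hdvd : ℓ ∣ p ^ f - 1 := by
    rw [← hρ, hρb, ← hf, ← hω]
    exact orderOf_pow_dvd b
  obtain ⟨m, hm⟩ := hdvd
  have hm0 : 0 < m := by
    rcases Nat.eq_zero_or_pos m with h | h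
    · rw [h, mul_zero] at hm; omega
    · exact h
  -- `b = c m`
  have hb : ∃ c, b = c * m ∧ Nat.Coprime c ℓ := by
    have h2 : orderOf (ω ^ b) = ℓ := by rw [← hρb]; exact hρ
    rw [orderOf_pow, hω, hf, hm] at h2
    have hg0 : Nat.gcd (ℓ * m) b ∣ ℓ * m := Nat.gcd_dvd_left _ _
    have h3 : Nat.gcd (ℓ * m) b = m := by
      have h4 : ℓ * m = ℓ * Nat.gcd (ℓ * m) b := by
        conv_lhs => rw [← Nat.div_mul_cancel hg0, h2]
      exact (Nat.eq_of_mul_eq_mul_left hℓ.pos h4).symm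
    have h5 : m ∣ b := by rw [← h3]; exact Nat.gcd_dvd_right _ _
    obtain ⟨c, hc⟩ := h5
    refine ⟨c, by rw [hc]; ring, ?_⟩
    rw [hc, mul_comm ℓ m, Nat.gcd_mul_left] at h3
    have h6 : Nat.gcd ℓ c = 1 := by
      have : m * Nat.gcd ℓ c = m * 1 := by rw [h3, mul_one]
      exact Nat.eq_of_mul_eq_mul_left hm0 this
    rwa [Nat.coprime_comm]
  obtain ⟨c, rfl, hc⟩ := hb
  have hodd : Odd ℓ := hℓ.odd_of_ne_two hℓ2
  have hid := Digits.digit_identity (p := p) (f := f) (ℓ := ℓ) (c := c) hp.one_lt hodd ⟨m, hm⟩ hN hc a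
  have hNm : (p ^ f - 1) / ℓ = m := by rw [hm]; exact Nat.mul_div_cancel_left m hℓ.pos
  rw [hNm] at hid
  -- assemble
  have e1 : MUnit M ((∏ i ∈ range ℓ, gaussSum (χ * ρ ^ i) ψ) /
      P ^ (∑ i ∈ range ℓ, (Nat.digits p ((a + c * i * m) % (p ^ f - 1))).sum)) := by
    rw [← prod_pow_eq_pow_sum, ← prod_div_distrib]
    refine MUnit.prod hM _ _ fun i _ => ?_
    have h7 : χ * ρ ^ i = ω ^ (a + c * i * m) := by
      rw [hχ, hρb, ← pow_mul, ← pow_add]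
      congr 2
      ring
    rw [h7]
    exact hg ψ hψ _
  have e2 : MUnit M (gaussSum (χ ^ ℓ) ψ' / P ^ (Nat.digits p ((ℓ * a) % (p ^ f - 1))).sum) := by
    have h7 : χ ^ ℓ = ω ^ (ℓ * a) := by rw [hχ, ← pow_mul, mul_comm]
    rw [h7]
    exact hg ψ' hψ' _
  have e3 : MUnit M ((Fintype.card K : ℂ) ^ ((ℓ - 1) / 2) / P ^ (f * (p - 1) * ((ℓ - 1) / 2))) := by
    rw [pow_mul P, ← div_pow]
    exact MUnit.pow hM hqu _
  have e4 := MUnit.div hM e1 (MUnit.mul hM e2 e3)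
  rw [hid, pow_add] at e4
  have h8 : gaussSum (χ ^ ℓ) ψ' ≠ 0 := by
    have := e2.ne_zero
    intro h
    rw [h, zero_div] at this
    exact this rfl
  have h9 : ((Fintype.card K : ℂ)) ^ ((ℓ - 1) / 2) ≠ 0 :=
    pow_ne_zero _ (by exact_mod_cast (by omega : Fintype.card K ≠ 0))
  have h10 : P ^ (Nat.digits p ((ℓ * a) % (p ^ f - 1))).sum ≠ 0 := pow_ne_zero _ hP
  have h11 : P ^ (f * (p - 1) * ((ℓ - 1) / 2)) ≠ 0 := pow_ne_zero _ hP
  convert e4 using 1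
  field_simp

theorem orderOf_dvd_card {K : Type*} [Field K] [Fintype K] (ρ : MulChar K ℂ) :
    orderOf ρ ∣ Fintype.card K - 1 := by
  classical
  refine orderOf_dvd_of_pow_eq_one ?_
  rw [← Fintype.card_units K]
  exact MulChar.pow_card_eq_one ρ

/-- `ψ (ℓ x)` is nontrivial. -/
theorem mulShift_ne_one {K : Type*} [Field K] {ψ : AddChar K ℂ} (hψ : ψ ≠ 1) {c : K}
    (hc : c ≠ 0) : ψ.mulShift c ≠ 1 := by
  intro h
  apply hψ
  ext x
  have := congrArg (fun φ : AddChar K ℂ => φ (c⁻¹ * x)) h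
  simpa [AddChar.mulShift_apply, mul_inv_cancel_left₀ hc] using this

/-- Task KGV NT3a2. -/
theorem nt3a2 (hS : StickLight) {p : ℕ} {M : Ideal AlgInt} (hM : IsPModular p M)
    {K : Type} [Field K] [Fintype K] [CharP K p] {χ ρ : MulChar K ℂ} {ψ : AddChar K ℂ}
    (hψ : ψ ≠ 1) {ℓ : ℕ} (hℓ : ℓ.Prime) (hℓ2 : ℓ ≠ 2) (hρ : orderOf ρ = ℓ) :
    ∃ x y : AlgInt, x ∉ M ∧ y ∉ M ∧ (y : ℂ) * ∏ i ∈ range ℓ, gaussSum (χ * ρ ^ i) ψ =
      x * (gaussSum (χ ^ ℓ) (ψ.mulShift (ℓ : K)) * (Fintype.card K : ℂ) ^ ((ℓ - 1) / 2)) := by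
  classical
  obtain ⟨hp, hMm, hpM⟩ := hM
  have hMp : M.IsPrime := hMm.isPrime
  obtain ⟨n, -, hn⟩ := FiniteField.card K p
  have hdvd : ℓ ∣ Fintype.card K - 1 := by rw [← hρ]; exact orderOf_dvd_card ρ
  have h1 : 1 < Fintype.card K := Fintype.one_lt_card
  have h2 : 2 < Fintype.card K := by
    have := Nat.le_of_dvd (by omega) hdvd
    have := hℓ.two_le
    omega
  obtain ⟨ω, P, hω, hG, hq, hP⟩ := hS p M ⟨hp, hMm, hpM⟩ K n hn h2
  have hℓK : (ℓ : K) ≠ 0 := by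
    intro h
    have h3 : p ∣ ℓ := (CharP.cast_eq_zero_iff K p ℓ).1 h
    have h4 : p = ℓ := (Nat.prime_dvd_prime_iff_eq hp hℓ).1 h3
    subst h4
    have h5 : p ∣ Fintype.card K := by
      rw [hn]; exact dvd_pow_self p n.pos.ne'
    have h6 : p ∣ 1 := by
      have := Nat.dvd_sub h5 hdvd
      rwa [show Fintype.card K - (Fintype.card K - 1) = 1 by omega] at this
    exact hp.one_lt.ne' (Nat.dvd_one.1 h6)
  have hu := munit_quot hp hMp hn hω hG hq hP (χ := χ) (ρ := ρ) (ψ := ψ)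
    (ψ' := ψ.mulShift (ℓ : K)) hψ (mulShift_ne_one hψ hℓK) hℓ hℓ2 hρ
  have hne := hu.ne_zero
  obtain ⟨x, y, hx, hy, e⟩ := hu
  refine ⟨x, y, hx, hy, ?_⟩
  rw [mul_div_assoc', div_eq_iff] at e
  · exact e
  · intro h
    rw [h, div_zero] at hne
    exact hne rfl

end Cfsg.Agent.H766.KGV
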