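import Cfsg.Agent.H766.KGV.Teich
import Cfsg.Agent.H766.KGV.Unit

/-!
# Stickelberger's theorem for complex Gauss sums: `stickLight : StickLight`
-/

set_option autoImplicit false

open Finset IsLocalRing

namespace Cfsg.Agent.H766.KGV

open Cfsg

/-- `s(a) + s(N - a) = f (p - 1)`. -/
theorem digits_compl {p f a : ℕ} (hp : 1 < p) (ha0 : 0 < a) (ha : a < p ^ f - 1) :
    (Nat.digits p a).sum + (Nat.digits p (p ^ f - 1 - a)).sum = f * (p - 1) := by
  have hN : 0 < p ^ f - 1 := by omega
  refine Nat.eq_of_mul_eq_mul_left hN ?_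
  rw [mul_add, Digits.mul_digits_sum hp ha, Digits.mul_digits_sum hp (by omega), ← mul_add,
    ← sum_add_distrib]
  set N := p ^ f - 1 with hNd
  have hcop : Nat.Coprime p N := by
    have hf : f ≠ 0 := by rintro rfl; simp [hNd] at hN
    have h1 : Nat.Coprime (p ^ f) N := by
      rw [show p ^ f = N + 1 by omega]
      simp
    exact (Nat.coprime_pow_left_iff (Nat.pos_of_ne_zero hf) _ _).1 h1
  have h1 : ∀ j ∈ range f, (p ^ j * a) % N + (p ^ j * (N - a)) % N = N := by
    intro j _
    have h2 : (p ^ j * a) % N ≠ 0 := by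
      intro h
      have h3 : N ∣ p ^ j * a := Nat.dvd_of_mod_eq_zero h
      have h4 : N ∣ a := (Nat.Coprime.pow_left j hcop).symm.dvd_of_dvd_mul_left h3
      have := Nat.le_of_dvd ha0 h4
      omega
    have h5 : (p ^ j * a) % N < N := Nat.mod_lt _ hN
    have h6 : (p ^ j * (N - a)) + p ^ j * a = p ^ j * N := by
      rw [← mul_add, Nat.sub_add_cancel ha.le]
    have h7 : ((p ^ j * a) % N + (p ^ j * (N - a)) % N) % N = 0 := by
      rw [← Nat.add_mod, add_comm, h6, Nat.mul_mod_left]
    have h8 : (p ^ j * (N - a)) % N < N := Nat.mod_lt _ hN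
    obtain ⟨c, hc⟩ := Nat.dvd_of_mod_eq_zero h7
    have hc1 : c = 1 := by
      rcases Nat.lt_or_ge c 1 with h | h
      · have : c = 0 := by omega
        rw [this, mul_zero] at hc
        omega
      · rcases Nat.lt_or_ge 1 c with h' | h'
        · have : N * 2 ≤ N * c := Nat.mul_le_mul_left _ h'
          omega
        · omega
    rw [hc, hc1, mul_one]
  rw [sum_congr rfl h1, sum_const, card_range, smul_eq_mul]
  ring

section Loc

variable (M : Ideal AlgInt) [hMp : M.IsPrime]

/-- The local ring at `M`. -/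
abbrev RM := Localization.AtPrime M

/-- The embedding of the local ring into the complex numbers. -/
noncomputable def toC : RM M →+* ℂ :=
  IsLocalization.lift (M := M.primeCompl) (g := algebraMap AlgInt ℂ)
    (fun y => (isUnit_iff_ne_zero).2 (MUnit.coe_ne_zero y.2))

theorem toC_algebraMap (x : AlgInt) : toC M (algebraMap AlgInt (RM M) x) = (x : ℂ) :=
  IsLocalization.lift_eq _ x

theorem toC_mk (x : AlgInt) (y : M.primeCompl) :
    (y : AlgInt) * toC M (IsLocalization.mk' (RM M) x y) = (x : ℂ) := by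
  have h := IsLocalization.mk'_spec' (RM M) x y
  have := congrArg (toC M) h
  rwa [map_mul, toC_algebraMap, toC_algebraMap] at this

theorem toC_injective : Function.Injective (toC M) := by
  rw [injective_iff_map_eq_zero]
  intro r hr
  obtain ⟨x, y, rfl⟩ := IsLocalization.exists_mk'_eq M.primeCompl r
  have h := toC_mk M x y
  rw [hr, mul_zero] at h
  have : x = 0 := Subtype.ext h.symm
  rw [this, IsLocalization.mk'_zero]

theorem munit_of_isUnit {r : RM M} (hr : IsUnit r) : MUnit M (toC M r) := by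
  obtain ⟨x, y, rfl⟩ := IsLocalization.exists_mk'_eq M.primeCompl r
  rw [IsLocalization.AtPrime.isUnit_mk'_iff] at hr
  exact ⟨x, y, hr, y.2, toC_mk M x y⟩

end Loc

theorem map_gaussSum {K R : Type*} [Field K] [Fintype K] [CommRing R] (φ : R →+* ℂ)
    (χ : MulChar K R) (ψ : AddChar K R) :
    φ (gaussSum χ ψ) = gaussSum (χ.ringHomComp φ) ((φ : R →* ℂ).compAddChar ψ) := by
  rw [gaussSum, gaussSum, map_sum]
  refine sum_congr rfl fun x _ => ?_
  rw [map_mul, MulChar.ringHomComp_apply, MonoidHom.compAddChar_apply]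
  rfl

/-- All additive characters are shifts of a nontrivial one. -/
theorem exists_mulShift {K : Type*} [Field K] [Fintype K] {ψ₀ : AddChar K ℂ} (h : ψ₀ ≠ 1)
    (ψ : AddChar K ℂ) : ∃ c : K, ψ = ψ₀.mulShift c := by
  classical
  have h1 : Function.Injective ψ₀.mulShift :=
    AddChar.to_mulShift_inj_of_isPrimitive (AddChar.IsPrimitive.of_ne_one h)
  have h2 : Function.Bijective ψ₀.mulShift :=
    (Fintype.bijective_iff_injective_and_card _).2 ⟨h1, AddChar.card_eq.symm⟩
  obtain ⟨c, hc⟩ := h2.2 ψ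
  exact ⟨c, hc.symm⟩

/-- Values of multiplicative characters are units at `M`. -/
theorem munit_mulChar {K : Type*} [Field K] [Fintype K] {M : Ideal AlgInt} (hM : M.IsPrime)
    (χ : MulChar K ℂ) {c : K} (hc : c ≠ 0) : MUnit M (χ c) := by
  have h1 : χ c ^ (Fintype.card K - 1) = 1 := by
    rw [← map_pow, FiniteField.pow_card_sub_one_eq_one c hc, map_one]
  have hN : 0 < Fintype.card K - 1 := by
    have : 1 < Fintype.card K := Fintype.one_lt_card
    omega
  have hi : IsIntegral ℤ (χ c) := by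
    refine ⟨Polynomial.X ^ (Fintype.card K - 1) - 1, Polynomial.monic_X_pow_sub_C 1 hN.ne', ?_⟩
    simp [h1]
  have h2 : (⟨χ c, hi⟩ : AlgInt) ^ (Fintype.card K - 1) = 1 := Subtype.ext h1
  refine ⟨⟨χ c, hi⟩, 1, ?_, fun h => hM.ne_top ((Ideal.eq_top_iff_one _).2 h), by simp⟩
  intro h
  have h3 : (1 : AlgInt) ∈ M := by
    rw [← h2]
    exact Ideal.pow_mem_of_mem M h _ hN
  exact hM.ne_top ((Ideal.eq_top_iff_one _).2 h3)

/-- Stickelberger's theorem. -/
theorem stickLight : StickLight := by
  classical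
  intro p M hM K _ _ _ f hf hq
  have hp : Fact p.Prime := ⟨hM.1⟩
  have hMp : M.IsPrime := hM.2.1.isPrime
  have hf0 : f ≠ 0 := by rintro rfl; simp at hf; omega
  have hp1 := hM.1.one_lt
  let _ : Algebra (ZMod p) K := ZMod.algebra K p
  obtain ⟨ι, ω, hω⟩ := exists_teich hM K
  obtain ⟨ζ, hζ⟩ := exists_primitiveRoot p hM.1.ne_zero
  let R := RM M
  -- residue map
  have hker : ∀ a : AlgInt, a ∈ M → ((residue R).comp (algebraMap AlgInt R)) a = 0 := by
    intro a ha
    rw [RingHom.comp_apply, residue_eq_zero_iff]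
    by_contra h
    rw [mem_maximalIdeal, mem_nonunits_iff, not_not,
      IsLocalization.AtPrime.isUnit_to_map_iff R M] at h
    exact h ha
  let j : K →+* ResidueField R :=
    (Ideal.Quotient.lift M ((residue R).comp (algebraMap AlgInt R)) hker).comp ι
  let ζR : R := algebraMap AlgInt R ζ
  have hζR : ζR ^ p = 1 := by
    show (algebraMap AlgInt R ζ) ^ p = 1
    rw [← map_pow, hζ.pow_eq_one, map_one]
  let ψ₁ : AddChar (ZMod p) R := AddChar.zmodChar p hζR
  let ψ : AddChar K R := ψ₁.compAddMonoidHom (Algebra.trace (ZMod p) K).toAddMonoidHom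
  have hψa : ∀ x, ψ x = ζR ^ (Algebra.trace (ZMod p) K x).val := fun x => rfl
  have hinj := toC_injective M
  have hζC : toC M ζR = (ζ : ℂ) := toC_algebraMap M ζ
  have hζ1 : ζR ≠ 1 := by
    intro h
    have h1 : (ζ : ℂ) = 1 := by rw [← hζC, h, map_one]
    have h2 : ζ = 1 := Subtype.ext h1
    exact hζ.ne_one hp1 h2
  have hψ1 : ψ ≠ 1 := by
    intro h
    obtain ⟨x, hx⟩ := Algebra.trace_surjective (ZMod p) K (1 : ZMod p)
    have h1 := congrArg (fun φ : AddChar K R => φ x) h
    simp only [hψa, hx, AddChar.one_apply] at h1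
    have : Fact (1 < p) := ⟨hp1⟩
    rw [ZMod.val_one p, pow_one] at h1
    exact hζ1 h1
  have hfin : Module.finrank (ZMod p) K = f := by
    have h1 := Module.card_eq_pow_finrank (K := ZMod p) (V := K)
    rw [ZMod.card, hf] at h1
    exact (Nat.pow_right_injective hp1 h1).symm
  let S : Stick.Setting p f K R :=
    { hp := hM.1
      hf := hf0
      hK := hf
      T := ω.ringHomComp (algebraMap AlgInt R)
      j := j
      hT := by
        intro x
        show residue R (algebraMap AlgInt R (ω x)) = _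
        show _ = Ideal.Quotient.lift M ((residue R).comp (algebraMap AlgInt R)) hker (ι x)
        rw [← hω, Ideal.Quotient.lift_mk]
        rfl
      ψ := ψ
      ζ := ζR
      hζ := hζR
      hψ := by
        intro x
        refine ⟨(Algebra.trace (ZMod p) K x).val, hψa x, ?_⟩
        have h1 := FiniteField.algebraMap_trace_eq_sum_pow (ZMod p) K x
        rw [hfin, Nat.card_eq_fintype_card, ZMod.card] at h1
        rw [← h1]
        have h2 : ((Algebra.trace (ZMod p) K x).val : ZMod p) = Algebra.trace (ZMod p) K x :=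
          ZMod.natCast_zmod_val _
        conv_rhs => rw [← h2]
        rw [map_natCast]
      hψ1 := hψ1 }
  have hSg : ∀ a, a < Fintype.card K - 1 → MUnit M (toC M (S.g a) /
      ((ζ : ℂ) - 1) ^ (Nat.digits p a).sum) := by
    intro a ha
    obtain ⟨u, hu, hu'⟩ := S.stickelberger a ha
    have huu : IsUnit u := by
      by_contra h
      have h1 : residue R u = 0 := (residue_eq_zero_iff _).2 ((mem_maximalIdeal _).2 h)
      rw [h1, zero_mul] at hu'
      exact zero_ne_one hu'
    have h1 := munit_of_isUnit M huu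
    have h2 : toC M (S.g a) = ((ζ : ℂ) - 1) ^ (Nat.digits p a).sum * toC M u := by
      rw [hu, map_mul, map_pow, map_sub, map_one]
      show ((toC M ζR) - 1) ^ _ * _ = _
      rw [hζC]
    have h3 : ((ζ : ℂ) - 1) ≠ 0 := by
      rw [← hζC]
      intro h
      apply hζ1
      apply hinj
      rw [map_one]
      exact sub_eq_zero.1 h
    rw [h2, mul_comm, mul_div_assoc, div_self (pow_ne_zero _ h3), mul_one]
    exact h1
  let ωC : MulChar K ℂ := (S.T⁻¹).ringHomComp (toC M)
  let ψC : AddChar K ℂ := (toC M : R →* ℂ).compAddChar ψ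
  have hψC : ψC ≠ 1 := by
    intro h
    apply hψ1
    ext x
    apply hinj
    have h1 := congrArg (fun φ : AddChar K ℂ => φ x) h
    have h2 : toC M (ψ x) = 1 := h1
    rw [h2, AddChar.one_apply, map_one]
  have hgC : ∀ a, toC M (S.g a) = - gaussSum (ωC ^ a) ψC := by
    intro a
    rw [Stick.Setting.g, map_neg, map_gaussSum, ← MulChar.ringHomComp_pow]
  have hP0 : ((ζ : ℂ) - 1) ≠ 0 := by
    rw [← hζC]
    intro h
    apply hζ1
    apply hinj
    rw [map_one]
    exact sub_eq_zero.1 h
  have hneg : MUnit M (-1 : ℂ) := ⟨1, -1, fun h => hMp.ne_top ((Ideal.eq_top_iff_one _).2 h),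
    fun h => hMp.ne_top ((Ideal.eq_top_iff_one _).2 (by simpa using M.neg_mem h)), by simp⟩
  have hall : ∀ ψ' : AddChar K ℂ, ψ' ≠ 1 → ∀ a, a < Fintype.card K - 1 →
      MUnit M (gaussSum (ωC ^ a) ψ' / ((ζ : ℂ) - 1) ^ (Nat.digits p a).sum) := by
    intro ψ' hψ' a ha
    obtain ⟨c, rfl⟩ := exists_mulShift hψC ψ'
    have hc : c ≠ 0 := by
      rintro rfl
      apply hψ'
      rw [AddChar.mulShift_zero]
    have h1 := gaussSum_mulShift (ωC ^ a) ψC (Units.mk0 c hc)
    rw [Units.val_mk0] at h1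
    have h2 := munit_mulChar hMp (ωC ^ a) hc
    have h3 := hSg a ha
    rw [hgC, ← h1] at h3
    have h4 := MUnit.mul hMp (MUnit.mul hMp h3 h2.inv) hneg
    have h5 := h2.ne_zero
    convert h4 using 1
    field_simp
  refine ⟨ωC, (ζ : ℂ) - 1, ?_, ?_, ?_, hP0⟩
  · -- order of ω
    apply Nat.dvd_antisymm (orderOf_dvd_card ωC)
    have h0 : 0 < orderOf ωC := orderOf_pos_iff.2 (isOfFinOrder_iff_pow_eq_one.2
      ⟨Fintype.card K - 1, by omega, by
        have := orderOf_dvd_card ωC
        exact orderOf_dvd_iff_pow_eq_one.1 this⟩)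
    rcases Nat.lt_or_ge (orderOf ωC) (Fintype.card K - 1) with h | h
    · exfalso
      refine S.T_pow_ne_one h0 h ?_
      ext x
      apply hinj
      have h1 := congrArg (fun φ : MulChar K ℂ => φ (x : K)) (pow_orderOf_eq_one ωC)
      rw [MulChar.ringHomComp_pow, MulChar.ringHomComp_apply, MulChar.one_apply_coe] at h1
      rw [h1, MulChar.one_apply_coe, map_one]
    · have := Nat.le_of_dvd (by omega) (orderOf_dvd_card ωC)
      rw [le_antisymm this h]
  · intro ψ' hψ' a ha
    obtain ⟨x, y, hx, hy, e⟩ := hall ψ' hψ' a ha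
    refine ⟨x, y, hx, hy, ?_⟩
    rw [← e]
    have := pow_ne_zero (Nat.digits p a).sum hP0
    field_simp
  · have hN : 1 < Fintype.card K - 1 := by omega
    have h1 := hall ψC hψC 1 hN
    have hψC' : ψC⁻¹ ≠ 1 := inv_ne_one.2 hψC
    have h2 := hall ψC⁻¹ hψC' (Fintype.card K - 1 - 1) (by omega)
    have h3 := MUnit.mul hMp h1 h2
    have hω1 : ωC ^ (Fintype.card K - 1 - 1) = ωC⁻¹ := by
      rw [eq_inv_iff_mul_eq_one, ← pow_succ, show Fintype.card K - 1 - 1 + 1
        = Fintype.card K - 1 by omega]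
      exact orderOf_dvd_iff_pow_eq_one.1 (orderOf_dvd_card ωC)
    have hne : ωC ^ 1 ≠ 1 := by
      intro h
      refine S.T_pow_ne_one (a := 1) one_pos (by omega) ?_
      ext x
      apply hinj
      have h1 := congrArg (fun φ : MulChar K ℂ => φ (x : K)) h
      rw [MulChar.ringHomComp_pow, MulChar.ringHomComp_apply, MulChar.one_apply_coe] at h1
      rw [h1, MulChar.one_apply_coe, map_one]
    have h4 : gaussSum (ωC ^ 1) ψC * gaussSum (ωC ^ (Fintype.card K - 1 - 1)) ψC⁻¹
        = (Fintype.card K : ℂ) := by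
      have := gaussSum_mul_gaussSum_eq_card hne (AddChar.IsPrimitive.of_ne_one hψC)
      rw [hω1]
      rwa [pow_one] at this ⊢
    have h5 : (Nat.digits p 1).sum + (Nat.digits p (Fintype.card K - 1 - 1)).sum
        = f * (p - 1) := by
      rw [hf]
      exact digits_compl hp1 one_pos (by rw [← hf]; omega)
    have h6 : gaussSum (ωC ^ 1) ψC / (↑ζ - 1) ^ (Nat.digits p 1).sum *
        (gaussSum (ωC ^ (Fintype.card K - 1 - 1)) ψC⁻¹ /
          (↑ζ - 1) ^ (Nat.digits p (Fintype.card K - 1 - 1)).sum)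
        = (Fintype.card K : ℂ) / ((ζ : ℂ) - 1) ^ (f * (p - 1)) := by
      rw [div_mul_div_comm, h4, ← pow_add, h5]
    rw [h6] at h3
    obtain ⟨x, y, hx, hy, e⟩ := h3
    refine ⟨x, y, hx, hy, ?_⟩
    rw [← e]
    have := pow_ne_zero (f * (p - 1)) hP0
    field_simp

end Cfsg.Agent.H766.KGV
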