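import Mathlib

/-!
# The digit sum identity

`N = p ^ f - 1`, `ℓ ∣ N`: the sum of the digit sums of the residues `a + i N / ℓ` modulo `N`,
`i < ℓ`, is the digit sum of `ℓ a` modulo `N` plus `f (p - 1) (ℓ - 1) / 2`.
-/

set_option autoImplicit false

open Finset

namespace Cfsg.Agent.H766.KGV.Digits

theorem digits_sum_add_mul {p : ℕ} (hp : 1 < p) (t m : ℕ) (ht : t < p) :
    (Nat.digits p (t + p * m)).sum = t + (Nat.digits p m).sum := by
  rcases Nat.eq_zero_or_pos (t + p * m) with h | h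
  · have h1 : t = 0 := by omega
    have h2 : m = 0 := by
      subst h1
      rcases Nat.eq_zero_or_pos m with h3 | h3
      · exact h3
      · have : 0 < p * m := Nat.mul_pos (by omega) h3
        omega
    subst h1 h2
    simp
  · rw [Nat.digits_def' hp h, List.sum_cons, Nat.add_mul_mod_self_left, Nat.mod_eq_of_lt ht,
      Nat.add_mul_div_left _ _ (by omega), Nat.div_eq_of_lt ht, zero_add]

/-- `N s(a) = (p - 1) ∑_{j < f} (p ^ j a mod N)`. -/
theorem mul_digits_sum {p f a : ℕ} (hp : 1 < p) (ha : a < p ^ f - 1) :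
    (p ^ f - 1) * (Nat.digits p a).sum = (p - 1) * ∑ j ∈ range f, (p ^ j * a) % (p ^ f - 1) := by
  set N := p ^ f - 1 with hN
  have hN0 : 0 < N := by omega
  have hpf : p ^ f = N + 1 := by omega
  set t : ℕ → ℕ := fun j => (p * ((p ^ j * a) % N)) / N with ht
  have htp : ∀ j, t j < p := by
    intro j
    simp only [ht]
    rw [Nat.div_lt_iff_lt_mul hN0]
    exact Nat.mul_lt_mul_of_pos_left (Nat.mod_lt _ hN0) (by omega)
  have hstep : ∀ j, p * ((p ^ j * a) % N) = N * t j + (p ^ (j + 1) * a) % N := by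
    intro j
    have h1 : (p ^ (j + 1) * a) % N = (p * ((p ^ j * a) % N)) % N := by
      rw [pow_succ, Nat.mul_mod p ((p ^ j * a) % N) N, Nat.mod_mod, ← Nat.mul_mod]
      congr 1
      ring
    rw [h1]
    simp only [ht]
    exact (Nat.div_add_mod _ _).symm
  have hf : (p ^ f * a) % N = a := by
    rw [hpf, Nat.add_mul, one_mul, Nat.mul_add_mod, Nat.mod_eq_of_lt ha]
  -- digit expansion
  have hA : ∀ k, ∃ A, p ^ k * a = N * A + (p ^ k * a) % N ∧
      (Nat.digits p A).sum = ∑ j ∈ range k, t j := by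
    intro k
    induction k with
    | zero => exact ⟨0, by rw [pow_zero, one_mul, Nat.mod_eq_of_lt ha]; simp, by simp⟩
    | succ k ih =>
      obtain ⟨A, hA, hs⟩ := ih
      refine ⟨t k + p * A, ?_, ?_⟩
      · have h2 := hstep k
        have h3 : p ^ (k + 1) * a = p * (p ^ k * a) := by ring
        calc p ^ (k + 1) * a = p * (p ^ k * a) := h3
          _ = p * (N * A + (p ^ k * a) % N) := by rw [← hA]
          _ = N * (p * A) + p * ((p ^ k * a) % N) := by ring
          _ = N * (p * A) + (N * t k + (p ^ (k + 1) * a) % N) := by rw [h2]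
          _ = _ := by ring
      · rw [digits_sum_add_mul hp _ _ (htp k), hs, sum_range_succ]
        ring
  obtain ⟨A, hA1, hA2⟩ := hA f
  have hAa : A = a := by
    rw [hf, hpf] at hA1
    have : N * a = N * A := by linarith
    exact (Nat.eq_of_mul_eq_mul_left hN0 this).symm
  rw [hAa] at hA2
  rw [hA2]
  -- telescoping
  have hsum : p * ∑ j ∈ range f, (p ^ j * a) % N
      = N * ∑ j ∈ range f, t j + ∑ j ∈ range f, (p ^ (j + 1) * a) % N := by
    rw [mul_sum, mul_sum, ← sum_add_distrib]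
    exact sum_congr rfl fun j _ => hstep j
  have hshift : ∑ j ∈ range f, (p ^ (j + 1) * a) % N = ∑ j ∈ range f, (p ^ j * a) % N := by
    have h1 := sum_range_succ (fun j => (p ^ j * a) % N) f
    have h2 := sum_range_succ' (fun j => (p ^ j * a) % N) f
    rw [h1] at h2
    simp only [hf, pow_zero, one_mul, Nat.mod_eq_of_lt ha] at h2
    omega
  rw [hshift] at hsum
  obtain ⟨p', rfl⟩ : ∃ p', p = p' + 1 := ⟨p - 1, by omega⟩
  rw [Nat.add_sub_cancel]
  have : (p' + 1) * ∑ j ∈ range f, ((p' + 1) ^ j * a) % N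
      = p' * ∑ j ∈ range f, ((p' + 1) ^ j * a) % N + ∑ j ∈ range f, ((p' + 1) ^ j * a) % N := by
    ring
  omega

/-- `∑_{i < ℓ} ((x + i m) mod (ℓ m)) = (ℓ x mod ℓ m) + m * ℓ (ℓ - 1) / 2`. -/
theorem sum_mod {ℓ m : ℕ} (hℓ : 0 < ℓ) (hm : 0 < m) (x : ℕ) :
    ∑ i ∈ range ℓ, (x + i * m) % (ℓ * m) = (ℓ * x) % (ℓ * m) + m * (ℓ * (ℓ - 1) / 2) := by
  -- write x = r + c m
  have h1 : ∀ c, ∑ i ∈ range ℓ, (x % m + (c + i) * m) % (ℓ * m)
      = ∑ i ∈ range ℓ, (x % m + i * m) := by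
    intro c
    induction c with
    | zero =>
      refine sum_congr rfl fun i hi => ?_
      rw [zero_add, Nat.mod_eq_of_lt]
      have h2 := Nat.mod_lt x hm
      have h3 : i + 1 ≤ ℓ := mem_range.1 hi
      have h4 : (i + 1) * m ≤ ℓ * m := Nat.mul_le_mul_right _ h3
      have h5 : (i + 1) * m = i * m + m := by ring
      omega
    | succ c ih =>
      rw [← ih]
      have e1 := sum_range_succ (fun i => (x % m + (c + i) * m) % (ℓ * m)) ℓ
      have e2 := sum_range_succ' (fun i => (x % m + (c + i) * m) % (ℓ * m)) ℓ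
      rw [e1] at e2
      have e3 : (x % m + (c + ℓ) * m) % (ℓ * m) = (x % m + (c + 0) * m) % (ℓ * m) := by
        rw [add_zero, add_mul, ← add_assoc, Nat.add_mod_right]
      rw [e3] at e2
      have e4 := Nat.add_right_cancel e2
      rw [e4]
      refine sum_congr rfl fun i _ => ?_
      congr 2
      ring
  have h2 : ∑ i ∈ range ℓ, (x + i * m) % (ℓ * m)
      = ∑ i ∈ range ℓ, (x % m + (x / m + i) * m) % (ℓ * m) := by
    refine sum_congr rfl fun i _ => ?_
    congr 1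
    have := Nat.mod_add_div x m
    rw [add_mul, ← add_assoc]
    congr 1
    rw [mul_comm (x / m) m]
    exact this.symm
  rw [h2, h1, sum_add_distrib, sum_const, card_range, smul_eq_mul, ← sum_mul, Finset.sum_range_id,
    Nat.mul_mod_mul_left]
  ring

/-- The permutation `i ↦ c i mod ℓ`. -/
theorem sum_mul_mod {ℓ c : ℕ} (hℓ : 0 < ℓ) (hc : Nat.Coprime c ℓ) (g : ℕ → ℕ)
    (hg : ∀ i, g (i % ℓ) = g i) : ∑ i ∈ range ℓ, g (c * i) = ∑ i ∈ range ℓ, g i := by
  have hinj : Set.InjOn (fun i => c * i % ℓ) (range ℓ) := by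
    intro i hi j hj hij
    have h1 : c * i ≡ c * j [MOD ℓ] := hij
    have h2 : i ≡ j [MOD ℓ] := Nat.ModEq.cancel_left_of_coprime (by rwa [Nat.gcd_comm]) h1
    have hi' := mem_range.1 (mem_coe.1 hi)
    have hj' := mem_range.1 (mem_coe.1 hj)
    unfold Nat.ModEq at h2
    rwa [Nat.mod_eq_of_lt hi', Nat.mod_eq_of_lt hj'] at h2
  have himg : (range ℓ).image (fun i => c * i % ℓ) = range ℓ := by
    refine eq_of_subset_of_card_le ?_ ?_
    · intro y hy
      obtain ⟨i, _, rfl⟩ := mem_image.1 hy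
      exact mem_range.2 (Nat.mod_lt _ hℓ)
    · rw [card_image_of_injOn hinj]
  conv_rhs => rw [← himg]
  rw [sum_image hinj]
  exact sum_congr rfl fun i _ => (hg _).symm

/-- **The digit sum identity.** -/
theorem digit_identity {p f ℓ c : ℕ} (hp : 1 < p) (hℓ : Odd ℓ) (hdvd : ℓ ∣ p ^ f - 1)
    (hN : 0 < p ^ f - 1) (hc : Nat.Coprime c ℓ) (a : ℕ) :
    ∑ i ∈ range ℓ, (Nat.digits p ((a + c * i * ((p ^ f - 1) / ℓ)) % (p ^ f - 1))).sum
      = (Nat.digits p ((ℓ * a) % (p ^ f - 1))).sum + f * (p - 1) * ((ℓ - 1) / 2) := by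
  set N := p ^ f - 1 with hNd
  obtain ⟨m, hm⟩ := hdvd
  have hℓ0 : 0 < ℓ := hℓ.pos
  have hm0 : 0 < m := by
    rcases Nat.eq_zero_or_pos m with h | h
    · rw [h, mul_zero] at hm; omega
    · exact h
  have hNm : N / ℓ = m := by rw [hm]; exact Nat.mul_div_cancel_left m hℓ0
  have hcop : Nat.Coprime p N := by
    have hf : f ≠ 0 := by rintro rfl; simp [hNd] at hN
    have h1 : Nat.Coprime (p ^ f) N := by
      rw [show p ^ f = N + 1 by omega]
      simp
    exact (Nat.coprime_pow_left_iff (Nat.pos_of_ne_zero hf) _ _).1 h1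
  have hcopℓ : ∀ j, Nat.Coprime (p ^ j) ℓ :=
    fun j => Nat.Coprime.pow_left j (Nat.Coprime.coprime_dvd_right ⟨m, hm⟩ hcop)
  obtain ⟨n, hn⟩ := hℓ
  refine Nat.eq_of_mul_eq_mul_left hN ?_
  rw [mul_sum, mul_add, mul_digits_sum hp (Nat.mod_lt _ hN)]
  have h1 : ∀ i ∈ range ℓ, N * (Nat.digits p ((a + c * i * (N / ℓ)) % N)).sum
      = (p - 1) * ∑ j ∈ range f, (p ^ j * a + (p ^ j * c) * i * m) % (ℓ * m) := by
    intro i _
    rw [mul_digits_sum hp (Nat.mod_lt _ hN), ← hNd, hNm, ← hm]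
    congr 1
    refine sum_congr rfl fun j _ => ?_
    rw [Nat.mul_mod (p ^ j) ((a + c * i * m) % N) N, Nat.mod_mod, ← Nat.mul_mod]
    congr 1
    ring
  rw [sum_congr rfl h1, ← mul_sum, sum_comm]
  have h2 : ∀ j ∈ range f, ∑ i ∈ range ℓ, (p ^ j * a + (p ^ j * c) * i * m) % (ℓ * m)
      = (p ^ j * (ℓ * a % N)) % N + m * (ℓ * (ℓ - 1) / 2) := by
    intro j _
    have h3 := sum_mul_mod (ℓ := ℓ) (c := p ^ j * c) hℓ0
      (Nat.Coprime.mul_left (hcopℓ j) hc) (fun i => (p ^ j * a + i * m) % (ℓ * m)) (by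
        intro i
        show (p ^ j * a + i % ℓ * m) % (ℓ * m) = (p ^ j * a + i * m) % (ℓ * m)
        rw [← Nat.mul_mod_mul_right m i ℓ, Nat.add_mod_mod])
    rw [h3, sum_mod hℓ0 hm0]
    congr 1
    rw [Nat.mul_mod (p ^ j) (ℓ * a % N) N, Nat.mod_mod, ← Nat.mul_mod, ← hm]
    congr 1
    ring
  rw [sum_congr rfl h2, sum_add_distrib, sum_const, card_range, smul_eq_mul, ← hNd, mul_add]
  congr 1
  have h4 : (ℓ - 1) / 2 = n := by omega
  have h5 : ℓ * (ℓ - 1) / 2 = ℓ * n := by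
    rw [show ℓ - 1 = 2 * n by omega, ← mul_assoc, mul_comm ℓ 2, mul_assoc,
      Nat.mul_div_cancel_left _ (by norm_num)]
  rw [h4, h5, hm]
  ring

end Cfsg.Agent.H766.KGV.Digits
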