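import Mathlib

/-!
# Stickelberger's congruence for Gauss sums

`K` a finite field of characteristic `p` with `p ^ f` elements, `R` a local domain whose residue
field contains `K` (via `j`), `T : MulChar K R` the Teichmueller character (lifting `j`), `ψ` the
additive character `x ↦ ζ ^ (Tr x)`, `ζ ^ p = 1`.  For `a < p ^ f - 1` the Gauss sum
`g a = - ∑ T x ^ (-a) ψ x` is `(ζ - 1) ^ s(a) * u`, `u` a unit, `u * γ(a) = 1` in the residue
field, `s(a)` the digit sum and `γ(a)` the product of the factorials of the `p`-adic digits of `a`.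
-/

set_option autoImplicit false

open Finset IsLocalRing

namespace Cfsg.Agent.H766.KGV.Stick

section Field

variable {K : Type*} [Field K] [Fintype K]

/-- `∑_{x ≠ 0} x⁻¹ ^ b (1 - x)⁻¹ = - (b + 1)` for `b < q - 1`. -/
theorem sum_inv_pow_mul [DecidableEq K] (hq : 2 < Fintype.card K) (b : ℕ)
    (hb : b < Fintype.card K - 1) :
    ∑ x : Kˣ, ((x⁻¹ : Kˣ) : K) ^ b * (1 - (x : K))⁻¹ = - ((b : K) + 1) := by
  induction b with
  | zero =>
    simp only [pow_zero, one_mul, Nat.cast_zero, zero_add]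
    have h1 : ∑ x : K, (1 - x)⁻¹ = 0 := by
      have : ∑ x : K, (1 - x)⁻¹ = ∑ x : K, x⁻¹ :=
        Fintype.sum_bijective (fun x => 1 - x) (Equiv.subLeft (1 : K)).bijective _ _ (fun x => rfl)
      rw [this]
      have h2 : ∑ x : K, x⁻¹ = ∑ x : K, x := by
        refine Fintype.sum_bijective (fun x : K => x⁻¹) inv_involutive.bijective _ _ (fun x => rfl)
      rw [h2]
      have := FiniteField.sum_pow_lt_card_sub_one K 1 (by omega)
      simpa using this
    have h3 : ∑ x : K, (1 - x)⁻¹ = (1 - (0 : K))⁻¹ + ∑ x : Kˣ, (1 - (x : K))⁻¹ := by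
      have := Fintype.sum_eq_add_sum_subtype_ne (fun x : K => (1 - x)⁻¹) 0
      rw [this]
      congr 1
      refine (Fintype.sum_equiv unitsEquivNeZero _ _ ?_).symm
      intro x
      simp [unitsEquivNeZero]
    rw [h1] at h3
    simp only [sub_zero, inv_one] at h3
    linear_combination -h3
  | succ b ih =>
    have ih' := ih (by omega)
    have key : ∀ x : Kˣ, ((x⁻¹ : Kˣ) : K) ^ (b + 1) * (1 - (x : K))⁻¹
        = ((x⁻¹ : Kˣ) : K) ^ b * (1 - (x : K))⁻¹ + (((x⁻¹ : Kˣ) : K) ^ (b + 1)
          - (if x = 1 then 1 else 0)) := by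
      intro x
      by_cases hx : x = 1
      · subst hx; simp
      · have hx' : (1 - (x : K)) ≠ 0 := by
          intro h
          apply hx
          ext
          rw [Units.val_one]
          linear_combination -h
        rw [if_neg hx]
        have hx0 : (x : K) ≠ 0 := x.ne_zero
        rw [Units.val_inv_eq_inv_val, pow_succ]
        have h7 : ((x : K))⁻¹ * (1 - (x : K))⁻¹ = (1 - (x : K))⁻¹ + (x : K)⁻¹ := by
          field_simp
          ring
        rw [mul_assoc, h7]
        ring
    rw [Finset.sum_congr rfl (fun x _ => key x), Finset.sum_add_distrib, ih',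
      Finset.sum_sub_distrib]
    have h4 : ∑ x : Kˣ, ((x⁻¹ : Kˣ) : K) ^ (b + 1) = 0 := by
      have : ∑ x : Kˣ, ((x⁻¹ : Kˣ) : K) ^ (b + 1) = ∑ x : Kˣ, ((x : Kˣ) : K) ^ (b + 1) :=
        Fintype.sum_bijective (fun x : Kˣ => x⁻¹) (Equiv.inv Kˣ).bijective _ _ (fun x => rfl)
      rw [this]
      have h5 := FiniteField.sum_pow_units K (b + 1)
      rw [h5, if_neg]
      intro h
      have := Nat.le_of_dvd (by omega) h
      omega
    rw [h4]
    simp
    ring

/-- `∑ x⁻¹ Tr x = -1`. -/
theorem sum_inv_mul_trace [DecidableEq K] {p : ℕ} (hp : p.Prime) {f : ℕ} (hf : f ≠ 0)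
    (hK : Fintype.card K = p ^ f) (hq : 2 < Fintype.card K) :
    ∑ x : Kˣ, ((x⁻¹ : Kˣ) : K) * ∑ i ∈ range f, (x : K) ^ (p ^ i) = -1 := by
  have hc : (Fintype.card Kˣ) = Fintype.card K - 1 := Fintype.card_units K
  have h1 : ∑ x : Kˣ, ((x⁻¹ : Kˣ) : K) * ∑ i ∈ range f, (x : K) ^ (p ^ i)
      = ∑ i ∈ range f, ∑ x : Kˣ, (x : K) ^ (p ^ i - 1) := by
    rw [Finset.sum_comm]
    refine Finset.sum_congr rfl fun x _ => ?_
    rw [Finset.mul_sum]
    refine Finset.sum_congr rfl fun i _ => ?_
    have : 0 < p ^ i := pow_pos hp.pos i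
    obtain ⟨m, hm⟩ := Nat.exists_eq_succ_of_ne_zero this.ne'
    rw [hm, Nat.succ_sub_one, Nat.succ_eq_add_one, pow_succ]
    rw [mul_comm ((x : K) ^ m) (x : K), ← mul_assoc, Units.inv_mul, one_mul]
  rw [h1]
  obtain ⟨f', rfl⟩ := Nat.exists_eq_succ_of_ne_zero hf
  rw [Finset.sum_range_succ']
  have h2 : ∑ i ∈ range f', ∑ x : Kˣ, (x : K) ^ (p ^ (i + 1) - 1) = 0 := by
    refine Finset.sum_eq_zero fun i hi => ?_
    rw [FiniteField.sum_pow_units, if_neg]
    intro h
    have hpi : 1 < p ^ (i + 1) := Nat.one_lt_pow (by omega) hp.one_lt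
    have h3 := Nat.le_of_dvd (by omega) h
    rw [hK] at h3
    have h4 : p ^ (i + 1) < p ^ (f' + 1) := Nat.pow_lt_pow_right hp.one_lt (by
      have := Finset.mem_range.1 hi
      omega)
    have h5 : 0 < p ^ (f' + 1) := pow_pos hp.pos _
    simp only [Nat.succ_eq_add_one] at h3
    omega
  rw [h2]
  simp only [pow_zero, Nat.sub_self, Finset.sum_const, Finset.card_univ, zero_add]
  rw [hc, nsmul_eq_mul, mul_one, Nat.cast_sub (by omega)]
  rw [FiniteField.cast_card_eq_zero]
  simp

end Field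

/-- The data for Stickelberger's congruence. -/
structure Setting (p f : ℕ) (K R : Type*) [Field K] [Fintype K] [CommRing R] [IsDomain R]
    [IsLocalRing R] where
  hp : p.Prime
  hf : f ≠ 0
  hK : Fintype.card K = p ^ f
  T : MulChar K R
  j : K →+* ResidueField R
  hT : ∀ x, residue R (T x) = j x
  ψ : AddChar K R
  ζ : R
  hζ : ζ ^ p = 1
  hψ : ∀ x : K, ∃ t : ℕ, ψ x = ζ ^ t ∧ (t : K) = ∑ i ∈ range f, x ^ (p ^ i)
  hψ1 : ψ ≠ 1

namespace Setting

variable {p f : ℕ} {K R : Type*} [Field K] [Fintype K] [CommRing R] [IsDomain R]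
    [IsLocalRing R] (S : Setting p f K R)

include S in
theorem charP : CharP K p := by
  have h : ringChar K ∣ p := by
    have h1 : ((p ^ f : ℕ) : K) = 0 := by rw [← S.hK]; exact FiniteField.cast_card_eq_zero K
    rw [ringChar.spec] at h1
    have h2 : (ringChar K).Prime := CharP.char_is_prime K (ringChar K)
    rw [(Nat.prime_dvd_prime_iff_eq h2 S.hp).1 (h2.dvd_of_dvd_pow h1)]
  have h2 : (ringChar K).Prime := CharP.char_is_prime K (ringChar K)
  have := (Nat.prime_dvd_prime_iff_eq h2 S.hp).1 h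
  rw [← this]
  exact ringChar.charP K

include S in
theorem charP_res : CharP (ResidueField R) p := by
  have := S.charP
  exact charP_of_injective_ringHom (S.j.injective) p

theorem residue_ζ : residue R S.ζ = 1 := by
  have := S.charP_res
  have : Fact p.Prime := ⟨S.hp⟩
  have h : (residue R S.ζ - 1) ^ p = 0 := by
    rw [sub_pow_char, one_pow, ← map_pow, S.hζ, map_one, sub_self]
  have := pow_eq_zero_iff (S.hp.ne_zero) |>.1 h
  linear_combination this

/-- The Gauss sum `- ∑ T(x)^(-a) ψ(x)`. -/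
noncomputable def g (a : ℕ) : R := - gaussSum (S.T⁻¹ ^ a) S.ψ

theorem g_zero : S.g 0 = 1 := by
  rw [g, pow_zero, gaussSum_one_left S.hψ1, neg_neg]

theorem inv_pow_apply (a : ℕ) (x : Kˣ) : (S.T⁻¹ ^ a) (x : K) = S.T ((x⁻¹ : Kˣ) : K) ^ a := by
  rw [MulChar.pow_apply_coe, MulChar.inv_apply', Units.val_inv_eq_inv_val]

theorem T_pow_ne_one {a : ℕ} (ha : 0 < a) (ha' : a < Fintype.card K - 1) : S.T⁻¹ ^ a ≠ 1 := by
  classical
  intro h
  have h1 : ∀ x : Kˣ, x ^ a = 1 := by
    intro x
    have h2 := congrArg (fun χ : MulChar K R => χ ((x⁻¹ : Kˣ) : K)) h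
    simp only [MulChar.one_apply_coe] at h2
    rw [inv_pow_apply, inv_inv] at h2
    have h3 : S.j ((x : K) ^ a) = 1 := by
      rw [map_pow, ← S.hT, ← map_pow, h2, map_one]
    have h4 : (x : K) ^ a = 1 := S.j.injective (by rw [h3, map_one])
    ext
    rw [Units.val_pow_eq_pow_val, h4, Units.val_one]
  have h5 : Fintype.card Kˣ ∣ a := by
    obtain ⟨y, hy⟩ := IsCyclic.exists_generator (α := Kˣ)
    have h6 := orderOf_dvd_of_pow_eq_one (h1 y)
    rwa [orderOf_eq_card_of_forall_mem_zpowers hy, Nat.card_eq_fintype_card] at h6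
  rw [Fintype.card_units K] at h5
  have := Nat.le_of_dvd ha h5
  omega

/-- Sum over units. -/
theorem gaussSum_units [DecidableEq K] (χ : MulChar K R) (ψ : AddChar K R) :
    gaussSum χ ψ = ∑ x : Kˣ, χ (x : K) * ψ (x : K) := by
  classical
  rw [gaussSum, Fintype.sum_eq_add_sum_subtype_ne _ (0 : K), MulChar.map_zero, zero_mul, zero_add]
  refine (Fintype.sum_equiv unitsEquivNeZero _ _ ?_).symm
  intro x
  simp [unitsEquivNeZero]

theorem g_one (hq : 2 < Fintype.card K) :
    ∃ u : R, S.g 1 = (S.ζ - 1) * u ∧ residue R u = 1 := by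
  classical
  have := S.charP_res
  choose t ht ht' using S.hψ
  have hexp : ∀ n : ℕ, ∃ w : R, S.ζ ^ n = 1 + n * (S.ζ - 1) + (S.ζ - 1) ^ 2 * w := by
    intro n
    induction n with
    | zero => exact ⟨0, by simp⟩
    | succ n ih =>
      obtain ⟨w, hw⟩ := ih
      refine ⟨w * S.ζ + n, ?_⟩
      rw [pow_succ, hw]
      push_cast
      ring
  choose w hw using hexp
  have h0 : ∑ x : Kˣ, (S.T⁻¹ ^ 1) (x : K) = 0 := by
    have h1 := MulChar.sum_eq_zero_of_ne_one (S.T_pow_ne_one (a := 1) one_pos (by omega))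
    rw [Fintype.sum_eq_add_sum_subtype_ne _ (0 : K), MulChar.map_zero, zero_add] at h1
    rw [← h1]
    refine Fintype.sum_equiv unitsEquivNeZero _ _ ?_
    intro x
    simp [unitsEquivNeZero]
  refine ⟨- ∑ x : Kˣ, (S.T⁻¹ ^ 1) (x : K) * ((t x : R) + (S.ζ - 1) * w (t x)), ?_, ?_⟩
  · rw [g, gaussSum_units]
    have : ∀ x : Kˣ, (S.T⁻¹ ^ 1) (x : K) * S.ψ (x : K) = (S.T⁻¹ ^ 1) (x : K)
        + (S.ζ - 1) * ((S.T⁻¹ ^ 1) (x : K) * ((t x : R) + (S.ζ - 1) * w (t x))) := by
      intro x
      rw [ht, hw]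
      ring
    rw [Finset.sum_congr rfl (fun x _ => this x), Finset.sum_add_distrib, h0, zero_add,
      ← Finset.mul_sum, mul_neg]
  · rw [map_neg, map_sum]
    have h2 : ∀ x : Kˣ, residue R ((S.T⁻¹ ^ 1) (x : K) * ((t x : R) + (S.ζ - 1) * w (t x)))
        = S.j (((x⁻¹ : Kˣ) : K) * ∑ i ∈ range f, (x : K) ^ (p ^ i)) := by
      intro x
      rw [map_mul, map_add, map_mul, map_sub, S.residue_ζ, map_one, sub_self, zero_mul, add_zero,
        inv_pow_apply, pow_one, S.hT, map_natCast, map_mul, ← ht' x, map_natCast]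
    rw [Finset.sum_congr rfl (fun x _ => h2 x), ← map_sum,
      sum_inv_mul_trace S.hp S.hf S.hK hq]
    simp

theorem residue_jacobi (hq : 2 < Fintype.card K) {b : ℕ} (hb : b < Fintype.card K - 1) :
    residue R (- jacobiSum (S.T⁻¹ ^ b) (S.T⁻¹)) = ((b + 1 : ℕ) : ResidueField R) := by
  classical
  have h1 : residue R (jacobiSum (S.T⁻¹ ^ b) (S.T⁻¹))
      = S.j (∑ x : Kˣ, ((x⁻¹ : Kˣ) : K) ^ b * (1 - (x : K))⁻¹) := by
    rw [jacobiSum, Fintype.sum_eq_add_sum_subtype_ne _ (0 : K), MulChar.map_zero, zero_mul,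
      zero_add, map_sum, map_sum]
    refine (Fintype.sum_equiv unitsEquivNeZero _ _ ?_).symm
    intro x
    simp only [unitsEquivNeZero, Equiv.coe_fn_mk]
    rw [map_mul, inv_pow_apply, MulChar.inv_apply', map_mul, map_pow, map_pow, S.hT, S.hT]
  rw [map_neg, h1, sum_inv_pow_mul hq b hb]
  simp

theorem step {a : ℕ} (ha : a + 1 < Fintype.card K - 1) :
    S.g a * S.g 1 = (- jacobiSum (S.T⁻¹ ^ a) (S.T⁻¹)) * S.g (a + 1) := by
  have h := jacobiSum_mul_nontrivial (χ := S.T⁻¹ ^ a) (φ := S.T⁻¹) (by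
    rw [← pow_succ]
    exact S.T_pow_ne_one (Nat.succ_pos _) ha) S.ψ
  rw [g, g, g, pow_one, pow_succ]
  linear_combination -h

theorem ζ_pow_eq {s t : ℕ} (h : (s : K) = (t : K)) : S.ζ ^ s = S.ζ ^ t := by
  have := S.charP
  have := (CharP.natCast_eq_natCast K p).1 h
  rw [← Nat.mod_add_div s p, ← Nat.mod_add_div t p, pow_add, pow_add, pow_mul, pow_mul, S.hζ,
    one_pow, one_pow, this]

theorem g_frob (a : ℕ) : S.g (p * a) = S.g a := by
  classical
  have := S.charP
  have : Fact p.Prime := ⟨S.hp⟩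
  rw [g, g, gaussSum, gaussSum]
  congr 1
  refine Fintype.sum_bijective (fun x : K => x ^ p) (by
    have := (frobenius_inj K p)
    exact Finite.injective_iff_bijective.1 this) _ _ ?_
  intro x
  have h1 : S.ψ (x ^ p) = S.ψ x := by
    obtain ⟨s, hs, hs'⟩ := S.hψ x
    obtain ⟨t, ht, ht'⟩ := S.hψ (x ^ p)
    rw [hs, ht]
    refine S.ζ_pow_eq ?_
    rw [hs', ht']
    obtain ⟨f', hf'⟩ := Nat.exists_eq_succ_of_ne_zero S.hf
    have h2 : x ^ (p ^ f) = x := by rw [← S.hK]; exact FiniteField.pow_card x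
    rw [hf', Finset.sum_range_succ, Finset.sum_range_succ', pow_zero, pow_one]
    rw [hf'] at h2
    congr 1
    · refine Finset.sum_congr rfl fun i _ => ?_
      rw [← pow_mul, pow_succ, mul_comm]
    · rw [← pow_mul, ← Nat.pow_succ', h2]
  rw [h1]
  congr 1
  by_cases hx : x = 0
  · subst hx
    rw [zero_pow S.hp.ne_zero, MulChar.map_zero, MulChar.map_zero]
  · have e1 := S.inv_pow_apply (p * a) (Units.mk0 x hx)
    have e2 := S.inv_pow_apply a ((Units.mk0 x hx) ^ p)
    simp only [Units.val_mk0, Units.val_pow_eq_pow_val] at e1 e2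
    rw [e1, e2]
    rw [← inv_pow, Units.val_pow_eq_pow_val, map_pow, pow_mul]

/-- **Stickelberger's congruence.** -/
theorem stickelberger (a : ℕ) (ha : a < Fintype.card K - 1) :
    ∃ u : R, S.g a = (S.ζ - 1) ^ (Nat.digits p a).sum * u ∧
      residue R u * (((Nat.digits p a).map Nat.factorial).prod : ℕ) = 1 := by
  classical
  have := S.charP
  have := S.charP_res
  have hp1 := S.hp.one_lt
  induction a using Nat.strong_induction_on with
  | _ a ih =>
  rcases Nat.eq_zero_or_pos a with rfl | hpos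
  · refine ⟨1, ?_, ?_⟩
    · rw [S.g_zero]; simp
    · simp
  · have hq : 2 < Fintype.card K := by omega
    by_cases hdvd : p ∣ a
    · obtain ⟨b, rfl⟩ := hdvd
      have hb : 0 < b := Nat.pos_of_mul_pos_left hpos |> fun h => by
        rcases Nat.eq_zero_or_pos b with rfl | h
        · simp at hpos
        · exact h
      have hlt : b < p * b := by nlinarith
      obtain ⟨u, hu, hu'⟩ := ih b hlt (by omega)
      have hd : Nat.digits p (p * b) = 0 :: Nat.digits p b := by
        have := Nat.digits_add_two_add_one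
        rw [Nat.digits_def' hp1 hpos]
        simp [Nat.mul_div_cancel_left b S.hp.pos]
      refine ⟨u, ?_, ?_⟩
      · rw [S.g_frob, hu, hd]; simp
      · rw [hd]; simpa using hu'
    · obtain ⟨a', rfl⟩ := Nat.exists_eq_succ_of_ne_zero hpos.ne'
      obtain ⟨u, hu, hu'⟩ := ih a' (Nat.lt_succ_self _) (by omega)
      obtain ⟨v, hv, hv'⟩ := S.g_one hq
      have hst := S.step (a := a') ha
      set J := - jacobiSum (S.T⁻¹ ^ a') (S.T⁻¹) with hJ
      have hJr : residue R J = ((a' + 1 : ℕ) : ResidueField R) := S.residue_jacobi hq (by omega)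
      have hJ0 : residue R J ≠ 0 := by
        rw [hJr]
        intro h
        exact hdvd ((CharP.cast_eq_zero_iff _ p _).1 h)
      have hJu : IsUnit J := by
        by_contra h
        exact hJ0 ((residue_eq_zero_iff _).2 ((mem_maximalIdeal _).2 h))
      obtain ⟨J', hJ'⟩ := hJu
      have hdig : ∃ c l, c + 1 < p ∧ Nat.digits p (a' + 1) = (c + 1) :: l ∧
          (Nat.digits p a').sum = c + l.sum ∧
          ((Nat.digits p a').map Nat.factorial).prod = c.factorial * (l.map Nat.factorial).prod ∧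
          ((a' + 1 : ℕ) : ResidueField R) = ((c + 1 : ℕ) : ResidueField R) := by
        have hm : (a' + 1) % p ≠ 0 := fun h => hdvd (Nat.dvd_of_mod_eq_zero h)
        obtain ⟨c, hc⟩ := Nat.exists_eq_succ_of_ne_zero hm
        have hclt : (a' + 1) % p < p := Nat.mod_lt _ S.hp.pos
        refine ⟨c, Nat.digits p ((a' + 1) / p), by omega, ?_, ?_⟩
        · rw [Nat.digits_def' hp1 (Nat.succ_pos _), hc]
        · have ha'' : a' = c + p * ((a' + 1) / p) := by
            have := Nat.mod_add_div (a' + 1) p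
            omega
          have hcast : ((a' + 1 : ℕ) : ResidueField R) = ((c + 1 : ℕ) : ResidueField R) := by
            rw [CharP.natCast_eq_natCast _ p]
            show (a' + 1) % p = (c + 1) % p
            rw [← Nat.succ_eq_add_one c, ← hc, Nat.mod_mod]
          refine ⟨?_, ?_, hcast⟩
          · rcases Nat.eq_zero_or_pos a' with h0 | h0
            · subst h0
              have h1 : (0 + 1) / p = 0 := Nat.div_eq_of_lt (by omega)
              have h2 : c = 0 := by rw [h1] at ha''; omega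
              rw [h1, h2]; simp
            · rw [Nat.digits_def' hp1 h0]
              have h1 : a' % p = c := by
                rw [ha'', Nat.add_mul_mod_self_left, Nat.mod_eq_of_lt (by omega)]
              have h2 : a' / p = (a' + 1) / p := by
                conv_lhs => rw [ha'']
                rw [Nat.add_mul_div_left _ _ S.hp.pos, Nat.div_eq_of_lt (by omega), zero_add]
              rw [h1, h2, List.sum_cons]
          · rcases Nat.eq_zero_or_pos a' with h0 | h0
            · subst h0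
              have h1 : (0 + 1) / p = 0 := Nat.div_eq_of_lt (by omega)
              have h2 : c = 0 := by rw [h1] at ha''; omega
              rw [h1, h2]; simp
            · rw [Nat.digits_def' hp1 h0]
              have h1 : a' % p = c := by
                rw [ha'', Nat.add_mul_mod_self_left, Nat.mod_eq_of_lt (by omega)]
              have h2 : a' / p = (a' + 1) / p := by
                conv_lhs => rw [ha'']
                rw [Nat.add_mul_div_left _ _ S.hp.pos, Nat.div_eq_of_lt (by omega), zero_add]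
              rw [h1, h2, List.map_cons, List.prod_cons]
      obtain ⟨c, l, hcp, hd1, hd2, hd3, hd4⟩ := hdig
      refine ⟨(J'⁻¹ : Rˣ) * (u * v), ?_, ?_⟩
      · rw [hd1, List.sum_cons]
        have e : J * S.g (a' + 1) = (S.ζ - 1) ^ (c + 1 + l.sum) * (u * v) := by
          rw [← hst, hu, hv, hd2]
          ring
        have e2 : S.g (a' + 1) = (J'⁻¹ : Rˣ) * (J * S.g (a' + 1)) := by
          rw [← hJ', ← mul_assoc, Units.inv_mul, one_mul]
        rw [Nat.succ_eq_add_one, e2, e]
        ring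
      · rw [Nat.succ_eq_add_one, hd1, List.map_cons, List.prod_cons, map_mul, map_mul, hv', mul_one,
          Nat.factorial_succ]
        rw [hd3] at hu'
        have e3 : residue R ((J'⁻¹ : Rˣ) : R) * residue R J = 1 := by
          rw [← map_mul, ← hJ', Units.inv_mul, map_one]
        rw [hJr, hd4] at e3
        push_cast at hu' e3 ⊢
        linear_combination (residue R ((J'⁻¹ : Rˣ) : R) * ((c : ResidueField R) + 1)) * hu' + e3

end Setting

end Cfsg.Agent.H766.KGV.Stick
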