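import Cfsg.Agent.H766.KGV.Stick
import Cfsg.Prelude.Def_Blocks

/-!
# Teichmueller characters with values in the algebraic integers

For a finite field `K` of characteristic `p` and a maximal ideal `M` of the ring of algebraic
integers containing `p` there are an embedding `ι : K → AlgInt / M` and a multiplicative character
`ω` of `K` with values in the algebraic integers lifting `ι`.
-/

set_option autoImplicit false

open Finset Polynomial

namespace Cfsg.Agent.H766.KGV

open Cfsg

section Teich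

variable {p : ℕ} {M : Ideal AlgInt} (hM : IsPModular p M)

/-- A primitive root of unity in the algebraic integers. -/
theorem exists_primitiveRoot (N : ℕ) (hN : N ≠ 0) : ∃ ζ : AlgInt, IsPrimitiveRoot ζ N := by
  have h := Complex.isPrimitiveRoot_exp N hN
  have hi : IsIntegral ℤ (Complex.exp (2 * Real.pi * Complex.I / N)) :=
    h.isIntegral (Nat.pos_of_ne_zero hN)
  refine ⟨⟨_, hi⟩, ?_⟩
  refine IsPrimitiveRoot.of_map_of_injective (f := (algebraMap AlgInt ℂ)) ?_ Subtype.val_injective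
  exact h

include hM in
theorem charP_quot : CharP (AlgInt ⧸ M) p := by
  have := hM.2.1
  let _ := Ideal.Quotient.field M
  have h0 : ((p : ℕ) : AlgInt ⧸ M) = 0 := by
    rw [← map_natCast (Ideal.Quotient.mk M)]
    exact Ideal.Quotient.eq_zero_iff_mem.2 hM.2.2
  rcases CharP.exists (AlgInt ⧸ M) with ⟨r, hr⟩
  have hrp : r ∣ p := (CharP.cast_eq_zero_iff (AlgInt ⧸ M) r p).1 h0
  have hr1 : r ≠ 1 := CharP.char_ne_one (AlgInt ⧸ M) r
  rcases (Nat.dvd_prime hM.1).1 hrp with h | h
  · exact absurd h hr1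
  · rw [← h]; exact hr

variable (K : Type*) [Field K] [Fintype K] [CharP K p]

include hM in
theorem exists_teich : ∃ (ι : K →+* AlgInt ⧸ M) (ω : MulChar K AlgInt),
    ∀ x, Ideal.Quotient.mk M (ω x) = ι x := by
  classical
  have := hM.2.1
  let _ := Ideal.Quotient.field M
  have hp : Fact p.Prime := ⟨hM.1⟩
  have hc := charP_quot hM
  let _ : Algebra (ZMod p) K := ZMod.algebra K p
  let _ : Algebra (ZMod p) (AlgInt ⧸ M) := ZMod.algebra (AlgInt ⧸ M) p
  have h1 : 1 < Fintype.card K := Fintype.one_lt_card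
  set N := Fintype.card K - 1 with hN
  have hN0 : N ≠ 0 := by omega
  obtain ⟨ζ, hζ⟩ := exists_primitiveRoot N hN0
  have hprod : (X ^ N - 1 : AlgInt[X]) = ∏ z ∈ nthRootsFinset N (1 : AlgInt), (X - C z) :=
    X_pow_sub_one_eq_prod (Nat.pos_of_ne_zero hN0) hζ
  have hprod' : (X ^ N - 1 : (AlgInt ⧸ M)[X])
      = ∏ z ∈ nthRootsFinset N (1 : AlgInt), (X - C (Ideal.Quotient.mk M z)) := by
    have := congrArg (Polynomial.map (Ideal.Quotient.mk M)) hprod
    simpa [Polynomial.map_prod] using this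
  have hpN : ((N : ℕ) : AlgInt ⧸ M) ≠ 0 := by
    intro h
    have h2 : p ∣ N := (CharP.cast_eq_zero_iff (AlgInt ⧸ M) p N).1 h
    obtain ⟨n, -, hn⟩ := FiniteField.card K p
    have h3 : p ∣ Fintype.card K := by rw [hn]; exact dvd_pow_self p n.pos.ne'
    have h4 : p ∣ 1 := by
      have := Nat.dvd_sub h3 h2
      rwa [show Fintype.card K - N = 1 by omega] at this
    exact hM.1.one_lt.ne' (Nat.dvd_one.1 h4)
  have hsep : (X ^ N - 1 : (AlgInt ⧸ M)[X]).Separable :=
    (X_pow_sub_one_separable_iff).2 hpN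
  have hinj : ∀ z ∈ nthRootsFinset N (1 : AlgInt), ∀ w ∈ nthRootsFinset N (1 : AlgInt),
      Ideal.Quotient.mk M z = Ideal.Quotient.mk M w → z = w := by
    intro z hz w hw h
    by_contra hne
    rw [hprod'] at hsep
    have h2 := hsep.squarefree
    have h3 : (X - C (Ideal.Quotient.mk M z)) * (X - C (Ideal.Quotient.mk M z)) ∣
        ∏ z ∈ nthRootsFinset N (1 : AlgInt), (X - C (Ideal.Quotient.mk M z)) := by
      rw [← Finset.mul_prod_erase _ _ hz, ← Finset.mul_prod_erase _ _
        (Finset.mem_erase.2 ⟨Ne.symm hne, hw⟩), h, ← mul_assoc]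
      exact dvd_mul_right _ _
    exact Polynomial.not_isUnit_X_sub_C _ (h2 _ h3)
  -- the embedding
  have hsplit : (((X : (ZMod p)[X]) ^ Fintype.card K - X).map
      (algebraMap (ZMod p) (AlgInt ⧸ M))).Splits := by
    have h2 : (((X : (ZMod p)[X]) ^ Fintype.card K - X).map
      (algebraMap (ZMod p) (AlgInt ⧸ M))) = X * (X ^ N - 1) := by
      rw [Polynomial.map_sub, Polynomial.map_pow, Polynomial.map_X,
        show Fintype.card K = N + 1 by omega, pow_succ]
      ring
    rw [h2, hprod']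
    refine Polynomial.Splits.mul Polynomial.Splits.X ?_
    exact Polynomial.Splits.prod fun z _ => Polynomial.Splits.X_sub_C _
  let ι : K →ₐ[ZMod p] (AlgInt ⧸ M) :=
    Polynomial.IsSplittingField.lift K ((X : (ZMod p)[X]) ^ Fintype.card K - X) hsplit
  have hroot : ∀ x : Kˣ, ∃ z ∈ nthRootsFinset N (1 : AlgInt), Ideal.Quotient.mk M z = ι x := by
    intro x
    have h2 : (ι x) ^ N = 1 := by
      rw [← map_pow, ← Units.val_pow_eq_pow_val]
      have : x ^ N = 1 := by
        rw [hN, ← Fintype.card_units K]; exact pow_card_eq_one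
      rw [this, Units.val_one, map_one]
    have h3 := congrArg (Polynomial.eval (ι x)) hprod'
    rw [Polynomial.eval_sub, Polynomial.eval_pow, Polynomial.eval_X, Polynomial.eval_one, h2,
      sub_self, Polynomial.eval_prod] at h3
    obtain ⟨z, hz, hz'⟩ := Finset.prod_eq_zero_iff.1 h3.symm
    refine ⟨z, hz, ?_⟩
    rw [Polynomial.eval_sub, Polynomial.eval_X, Polynomial.eval_C] at hz'
    exact (sub_eq_zero.1 hz').symm
  choose ω₀ hω₀ hω₀' using hroot
  have hpow : ∀ x, ω₀ x ^ N = 1 := fun x => (mem_nthRootsFinset (Nat.pos_of_ne_zero hN0) _).1 (hω₀ x)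
  have hone : ω₀ 1 = 1 := by
    refine hinj _ (hω₀ 1) _ ?_ ?_
    · exact (mem_nthRootsFinset (Nat.pos_of_ne_zero hN0) _).2 (one_pow _)
    · rw [hω₀', Units.val_one, map_one, map_one]
  have hmul : ∀ x y, ω₀ (x * y) = ω₀ x * ω₀ y := by
    intro x y
    refine hinj _ (hω₀ _) _ ?_ ?_
    · refine (mem_nthRootsFinset (Nat.pos_of_ne_zero hN0) _).2 ?_
      rw [mul_pow, hpow, hpow, one_mul]
    · rw [hω₀', map_mul, hω₀', hω₀', Units.val_mul, map_mul]
  let ω₁ : Kˣ →* AlgIntˣ := MonoidHom.toHomUnits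
    { toFun := ω₀, map_one' := hone, map_mul' := hmul }
  refine ⟨ι, MulChar.ofUnitHom ω₁, ?_⟩
  intro x
  by_cases hx : x = 0
  · subst hx
    rw [MulChar.map_zero, map_zero]
    exact (map_zero (ι : K →+* AlgInt ⧸ M)).symm
  · have h2 := MulChar.ofUnitHom_coe ω₁ (Units.mk0 x hx)
    rw [Units.val_mk0] at h2
    rw [h2]
    exact hω₀' (Units.mk0 x hx)

end Teich

end Cfsg.Agent.H766.KGV
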